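import Groth.Agent.ImperfLib.FieldExt
import Groth.Agent.PerfectFieldLib.FormallySmooth
import Groth.Agent.S9319
import Mathlib.RingTheory.Kaehler.JacobiZariski
import Mathlib.Algebra.Field.ZMod
import Mathlib.Algebra.Algebra.Rat
import Mathlib.FieldTheory.Perfect

/-!
# The first homology of the cotangent complex of a field extension and its module of imperfection
-/

set_option autoImplicit false
set_option linter.style.haveILetI false

universe u v

open TensorProduct

namespace FldSqLib

theorem map_h1_eq_zero_of_perfect (P : Type v) [Field P] [PerfectField P] (K L : Type u) [Field K] [Field L]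
    [Algebra K L] [Algebra P K] [Algebra P L] [IsScalarTower P K L] :
    Algebra.H1Cotangent.map ℤ K L L = 0 := by
  haveI : Algebra.FormallySmooth P L := Groth.Agent.PerfectFieldLib.formallySmooth_of_perfectField P L
  haveI : Subsingleton (Algebra.H1Cotangent P L) := Algebra.FormallySmooth.subsingleton_h1Cotangent
  refine LinearMap.ext fun x => ?_
  have h : Algebra.H1Cotangent.map ℤ K L L x =
      Algebra.H1Cotangent.map P K L L (Algebra.H1Cotangent.map ℤ P L L x) := by
    unfold Algebra.H1Cotangent.map
    rw [← Algebra.Extension.H1Cotangent.map_comp_apply]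
    exact LinearMap.congr_fun (Algebra.Extension.H1Cotangent.map_eq _ _) x
  rw [h, Subsingleton.elim (Algebra.H1Cotangent.map ℤ P L L x) 0, map_zero]
  rfl

theorem map_h1_eq_zero (K L : Type u) [Field K] [Field L] [Algebra K L] :
    Algebra.H1Cotangent.map ℤ K L L = 0 := by
  obtain ⟨p, hp⟩ := CharP.exists K
  rcases CharP.char_is_prime_or_zero K p with hp' | rfl
  · haveI := Fact.mk hp'
    letI := ZMod.algebra K p
    letI : Algebra (ZMod p) L := ((algebraMap K L).comp (algebraMap (ZMod p) K)).toAlgebra
    haveI : IsScalarTower (ZMod p) K L := .of_algebraMap_eq' rfl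
    exact map_h1_eq_zero_of_perfect (ZMod p) K L
  · haveI := CharP.charP_to_charZero K
    letI : Algebra ℚ L := ((algebraMap K L).comp (algebraMap ℚ K)).toAlgebra
    haveI : IsScalarTower ℚ K L := .of_algebraMap_eq' rfl
    exact map_h1_eq_zero_of_perfect ℚ K L

theorem exists_h1_equiv_imperfection (K L : Type u) [Field K] [Field L] [Algebra K L] :
    Nonempty (Algebra.H1Cotangent K L ≃ₗ[L] EGA41.imperfection ℤ K L) := by
  let δ := Algebra.H1Cotangent.δ ℤ K L
  have hi : Function.Injective δ := (injective_iff_map_eq_zero _).2 fun x hx => by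
    obtain ⟨w, rfl⟩ := (Algebra.H1Cotangent.exact_map_δ ℤ K L x).1 hx
    rw [map_h1_eq_zero K L, LinearMap.zero_apply]
  exact ⟨(LinearEquiv.ofInjective δ hi).trans (LinearEquiv.ofEq _ _
    (LinearMap.exact_iff.1 (Algebra.H1Cotangent.exact_δ_mapBaseChange ℤ K L)).symm)⟩

/-- A finitely generated field extension: finiteness and Cartier's equality in terms of `H₁`. -/
theorem h1_index (K L : Type u) [Field K] [Field L] [Algebra K L] [Algebra.EssFiniteType K L] :
    Module.Finite L Ω[L⁄K] ∧ Module.Finite L (Algebra.H1Cotangent K L) ∧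
      Module.finrank L Ω[L⁄K] =
        Module.finrank L (Algebra.H1Cotangent K L) + Cardinal.toNat (Algebra.trdeg K L) := by
  obtain ⟨e⟩ := exists_h1_equiv_imperfection K L
  obtain ⟨h1, h2, h3⟩ := ImperfLib.index_eq_trdeg K L
  exact ⟨h1, Module.Finite.equiv e.symm, by rw [e.finrank_eq]; exact h3⟩

end FldSqLib
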