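import Mathlib.LinearAlgebra.FiniteDimensional.Lemmas
import Mathlib.LinearAlgebra.Isomorphisms
import Mathlib.Algebra.Exact.Basic

/-!
# The index of a composite of two linear maps
-/

set_option autoImplicit false
set_option linter.style.haveILetI false

universe u v w x

namespace FldSqLib

variable {K : Type u} [Field K] {X : Type v} {Y : Type w} {Z : Type x} [AddCommGroup X] [Module K X]
  [AddCommGroup Y] [Module K Y] [AddCommGroup Z] [Module K Z]

theorem finite_of_ker_range (a : X →ₗ[K] Y) [Module.Finite K (LinearMap.ker a)]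
    [Module.Finite K (LinearMap.range a)] : Module.Finite K X := by
  haveI : Module.Finite K (X ⧸ LinearMap.ker a) := Module.Finite.equiv a.quotKerEquivRange.symm
  exact Module.Finite.of_submodule_quotient (LinearMap.ker a)

/-- Kernels and cokernels of finite dimension are stable under composition and the index is additive. -/
theorem index_comp (f : X →ₗ[K] Y) (g : Y →ₗ[K] Z) [Module.Finite K (LinearMap.ker f)]
    [Module.Finite K (LinearMap.ker g)] [Module.Finite K (Y ⧸ LinearMap.range f)]
    [Module.Finite K (Z ⧸ LinearMap.range g)] :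
    Module.Finite K (LinearMap.ker (g ∘ₗ f)) ∧ Module.Finite K (Z ⧸ LinearMap.range (g ∘ₗ f)) ∧
      (Module.finrank K (LinearMap.ker (g ∘ₗ f)) : ℤ) - Module.finrank K (Z ⧸ LinearMap.range (g ∘ₗ f)) =
        ((Module.finrank K (LinearMap.ker f) : ℤ) - Module.finrank K (Y ⧸ LinearMap.range f)) +
          ((Module.finrank K (LinearMap.ker g) : ℤ) - Module.finrank K (Z ⧸ LinearMap.range g)) := by
  classical
  let W := LinearMap.range f
  let R := LinearMap.range (g ∘ₗ f)
  let a : LinearMap.ker (g ∘ₗ f) →ₗ[K] LinearMap.ker g :=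
    (f ∘ₗ (LinearMap.ker (g ∘ₗ f)).subtype).codRestrict _ fun x => x.2
  let δ : LinearMap.ker g →ₗ[K] Y ⧸ W := W.mkQ ∘ₗ (LinearMap.ker g).subtype
  let b : (Y ⧸ W) →ₗ[K] Z ⧸ R := W.mapQ R g (by
    rintro y ⟨x, rfl⟩
    exact ⟨x, rfl⟩)
  let c : (Z ⧸ R) →ₗ[K] Z ⧸ LinearMap.range g := Submodule.factor (LinearMap.range_comp_le_range f g)
  let e : LinearMap.ker a ≃ₗ[K] LinearMap.ker f :=
    LinearEquiv.ofBijective
      (((LinearMap.ker (g ∘ₗ f)).subtype ∘ₗ (LinearMap.ker a).subtype).codRestrict _ fun x =>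
        congrArg Subtype.val x.2)
      ⟨fun x y h => Subtype.ext (Subtype.ext (congrArg Subtype.val h :)),
        fun x => ⟨⟨⟨x.1, by
          rw [LinearMap.mem_ker, LinearMap.comp_apply, LinearMap.mem_ker.1 x.2, map_zero]⟩,
          Subtype.ext x.2⟩, rfl⟩⟩
  have hδ : LinearMap.ker δ = LinearMap.range a := by
    ext y
    simp only [δ, W, LinearMap.mem_ker, LinearMap.comp_apply, Submodule.mkQ_apply,
      Submodule.Quotient.mk_eq_zero, LinearMap.mem_range, Submodule.subtype_apply]
    exact ⟨fun ⟨x, hx⟩ => ⟨⟨x, by rw [LinearMap.mem_ker, LinearMap.comp_apply, hx]; exact y.2⟩, Subtype.ext hx⟩,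
      fun ⟨x, hx⟩ => ⟨x.1, congrArg Subtype.val hx⟩⟩
  have hb : LinearMap.ker b = LinearMap.range δ := by
    ext y
    obtain ⟨y, rfl⟩ := W.mkQ_surjective y
    simp only [b, R, LinearMap.mem_ker, Submodule.mkQ_apply, Submodule.mapQ_apply,
      Submodule.Quotient.mk_eq_zero, LinearMap.mem_range, LinearMap.comp_apply]
    constructor
    · rintro ⟨x, hx⟩
      refine ⟨⟨y - f x, by rw [LinearMap.mem_ker, map_sub, hx, sub_self]⟩, ?_⟩
      show (Submodule.Quotient.mk (y - f x) : Y ⧸ W) = Submodule.Quotient.mk y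
      rw [Submodule.Quotient.eq, sub_sub_cancel_left]
      exact W.neg_mem ⟨x, rfl⟩
    · rintro ⟨z, hz⟩
      obtain ⟨x, hx⟩ := (Submodule.Quotient.eq W).1 hz
      refine ⟨-x, ?_⟩
      rw [map_neg, hx, neg_sub, map_sub, Submodule.subtype_apply, LinearMap.mem_ker.1 z.2, sub_zero]
  have hc : LinearMap.ker c = LinearMap.range b := by
    ext z
    obtain ⟨z, rfl⟩ := R.mkQ_surjective z
    rw [LinearMap.mem_ker, LinearMap.mem_range]
    show (Submodule.Quotient.mk z : Z ⧸ LinearMap.range g) = 0 ↔ _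
    rw [Submodule.Quotient.mk_eq_zero]
    constructor
    · rintro ⟨y, rfl⟩
      exact ⟨W.mkQ y, rfl⟩
    · rintro ⟨y, hy⟩
      obtain ⟨y, rfl⟩ := W.mkQ_surjective y
      obtain ⟨x, hx⟩ := (Submodule.Quotient.eq R).1 hy
      exact ⟨y - f x, by rw [map_sub]; exact (congrArg (g y - ·) hx).trans (sub_sub_cancel _ _)⟩
  have hc' : Function.Surjective c := Submodule.factor_surjective _
  haveI : Module.Finite K (LinearMap.ker a) := Module.Finite.equiv e.symm
  haveI : Module.Finite K (LinearMap.ker (g ∘ₗ f)) := finite_of_ker_range a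
  haveI : Module.Finite K (LinearMap.ker c) := by rw [hc]; infer_instance
  haveI : Module.Finite K (LinearMap.range c) := inferInstance
  haveI : Module.Finite K (Z ⧸ R) := finite_of_ker_range c
  refine ⟨inferInstance, inferInstance, ?_⟩
  have h1 := LinearMap.finrank_range_add_finrank_ker a
  have h2 := LinearMap.finrank_range_add_finrank_ker δ
  have h3 := LinearMap.finrank_range_add_finrank_ker b
  have h4 := LinearMap.finrank_range_add_finrank_ker c
  rw [e.finrank_eq] at h1
  rw [hδ] at h2
  rw [hb] at h3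
  rw [hc] at h4
  have h5 : Module.finrank K (LinearMap.range c) = Module.finrank K (Z ⧸ LinearMap.range g) := by
    rw [LinearMap.range_eq_top.2 hc', finrank_top]
  simp only [W, R] at h1 h2 h3 h4 h5
  omega

end FldSqLib
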